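import Cfsg.Agent.Lib.Recog.SzEightGraph.SzFacts
import Cfsg.Agent.S0324
import Mathlib

/-!
# Arbitrarily large groups `V ⋊ (Sz(8) ⋊ C₃)` whose prime graph has the edges 2–3, 2–5, 2–7, 3–5
-/

set_option autoImplicit false

namespace Cfsg.Agent.Recog.SzEightGraph

open Cfsg.Agent.Suzuki
open scoped Matrix

/-- The graph with edges `2–3`, `2–5`, `2–7`, `3–5`, as unordered products. -/
def edgeProducts : List ℕ := [6, 10, 14, 15]

section

variable {F : Type} [Field F] [Fintype F] (D : Dat F 1) (hF : Fintype.card F = 2 ^ (2 * 1 + 1))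
include D hF

/-- The action of the field automorphisms. -/
def fieldAct : Multiplicative (ZMod 3) →* MulAut (Cfsg.Sz F 1) where
  toFun i := fieldAut D hF i.toAdd
  map_one' := fieldAut_zero D hF
  map_mul' i j := (fieldAut_mul D hF i.toAdd j.toAdd).symm

/-- `Sz(8) ⋊ C₃`. -/
abbrev K : Type := Cfsg.Sz F 1 ⋊[fieldAct D hF] Multiplicative (ZMod 3)

omit hF in
/-- The matrices on which `Sz(8)` acts. -/
def sact (g : Cfsg.Sz F 1) (X : Matrix (Fin 4) (Fin 4) F) : Matrix (Fin 4) (Fin 4) F :=
  g.1.1 * X * (g.1.1.map (frHom D 1))ᵀ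

omit hF in
theorem sact_mul (g h : Cfsg.Sz F 1) (X : Matrix (Fin 4) (Fin 4) F) :
    sact D (g * h) X = sact D g (sact D h X) := by
  show (g.1.1 * h.1.1) * X * ((g.1.1 * h.1.1).map (frHom D 1))ᵀ = _
  rw [Matrix.map_mul, Matrix.transpose_mul]
  simp only [sact, mul_assoc]

omit hF in
theorem sact_one (X : Matrix (Fin 4) (Fin 4) F) : sact D 1 X = X := by simp [sact]

omit hF in
/-- The action of `Sz(8)` on tuples of matrices. -/
def f1 (n : ℕ) : Cfsg.Sz F 1 →* MulAut (Multiplicative (Fin n → Matrix (Fin 4) (Fin 4) F)) where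
  toFun g := AddEquiv.toMultiplicative
    { toFun := fun X t => sact D g (X t)
      invFun := fun X t => sact D g⁻¹ (X t)
      left_inv := fun X => funext fun t => by simp [← sact_mul, sact_one]
      right_inv := fun X => funext fun t => by simp [← sact_mul, sact_one]
      map_add' := fun X Y => funext fun t => by simp [sact, mul_add, add_mul] }
  map_one' := MulEquiv.ext fun X => funext fun t => sact_one D _
  map_mul' g h := MulEquiv.ext fun X => funext fun t => sact_mul D g h _

/-- The action of the field automorphisms on tuples of matrices. -/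
def f2 (n : ℕ) : Multiplicative (ZMod 3) →* MulAut (Multiplicative (Fin n → Matrix (Fin 4) (Fin 4) F)) where
  toFun i := AddEquiv.toMultiplicative
    { toFun := fun X t => (X t).map (frHom D i.toAdd)
      invFun := fun X t => (X t).map (frHom D (-i.toAdd))
      left_inv := fun X => funext fun t => Matrix.ext fun r c => by
        simp only [Matrix.map_apply, frHom_apply]
        rw [fr_fr hF, neg_add_cancel]; exact fr_zero' hF _
      right_inv := fun X => funext fun t => Matrix.ext fun r c => by
        simp only [Matrix.map_apply, frHom_apply]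
        rw [fr_fr hF, add_neg_cancel]; exact fr_zero' hF _
      map_add' := fun X Y => funext fun t => Matrix.ext fun r c => map_add (frHom D i.toAdd) _ _ }
  map_one' := MulEquiv.ext fun X => funext fun t => Matrix.ext fun r c => fr_zero' hF _
  map_mul' i j := MulEquiv.ext fun X => funext fun t => Matrix.ext fun r c => (fr_fr hF _ _ _).symm

theorem compat (n : ℕ) (i : Multiplicative (ZMod 3)) :
    (f1 D n).comp (fieldAct D hF i).toMonoidHom =
      (MulAut.conj (f2 D hF n i)).toMonoidHom.comp (f1 D n) := by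
  refine MonoidHom.ext fun g => ?_
  show f1 D n (fieldAct D hF i g) = f2 D hF n i * f1 D n g * (f2 D hF n i)⁻¹
  rw [eq_mul_inv_iff_mul_eq]
  refine MulEquiv.ext fun X => funext fun t => ?_
  show sact D (fieldAut D hF i.toAdd g) ((X.toAdd t).map (frHom D i.toAdd)) =
    (sact D g (X.toAdd t)).map (frHom D i.toAdd)
  have h1 : (fieldAut D hF i.toAdd g).1.1 = g.1.1.map (frHom D i.toAdd) := rfl
  have hc : (g.1.1.map (frHom D i.toAdd)).map (frHom D 1) =
      (g.1.1.map (frHom D 1)).map (frHom D i.toAdd) := by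
    ext r c
    simp only [Matrix.map_apply, frHom_apply]
    rw [fr_fr hF, fr_fr hF, add_comm]
  simp only [sact, h1, Matrix.map_mul, Matrix.transpose_map, hc]

/-- The action of `K` on tuples of matrices. -/
def act (n : ℕ) : K D hF →* MulAut (Multiplicative (Fin n → Matrix (Fin 4) (Fin 4) F)) :=
  SemidirectProduct.lift (f1 D n) (f2 D hF n) (compat D hF n)

theorem mem_left {x : K D hF} (h : ¬ 3 ∣ orderOf x) : x = SemidirectProduct.inl x.left := by
  have h1 := orderOf_map_dvd (SemidirectProduct.rightHom (φ := fieldAct D hF)) x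
  have h2 := orderOf_dvd_natCard (SemidirectProduct.rightHom (φ := fieldAct D hF) x)
  rw [show Nat.card (Multiplicative (ZMod 3)) = 3 by simp] at h2
  have h3 : orderOf (SemidirectProduct.rightHom (φ := fieldAct D hF) x) = 1 := by
    rcases (Nat.dvd_prime Nat.prime_three).1 h2 with e | e
    · exact e
    · rw [e] at h1; exact absurd h1 h
  have h4 : x.right = 1 := orderOf_eq_one_iff.1 h3
  ext <;> simp [h4]

/-- Orders of elements of `Sz(8) ⋊ C₃` that are products of two primes. -/
theorem order_K (x : K D hF) (r s : ℕ) (hr : r.Prime) (hs : s.Prime) (hrs : r ≠ s)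
    (h : orderOf x = r * s) : r * s ∈ edgeProducts := by
  have hd : ∀ g : Cfsg.Sz F 1, orderOf g ≠ r * s := by
    intro g hg
    have h4 : ∀ k : ℕ, k.Prime → r * s ∣ k → False := fun k hk hd => by
      rcases (Nat.dvd_prime hk).1 hd with e | e
      · have := Nat.one_lt_mul_iff.2 ⟨hr.pos, hs.pos, Or.inl hr.one_lt⟩
        omega
      · have e1 := (Nat.prime_dvd_prime_iff_eq hr hk).1 (e ▸ dvd_mul_right r s)
        have e2 := (Nat.prime_dvd_prime_iff_eq hs hk).1 (e ▸ dvd_mul_left s r)
        exact hrs (e1.trans e2.symm)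
    rcases order_cases D hF g with h | h | h | h <;> rw [hg] at h
    · have e1 := (Nat.prime_dvd_prime_iff_eq hr Nat.prime_two).1
        (hr.dvd_of_dvd_pow (show r ∣ 2 ^ 2 from (dvd_mul_right r s).trans h))
      have e2 := (Nat.prime_dvd_prime_iff_eq hs Nat.prime_two).1
        (hs.dvd_of_dvd_pow (show s ∣ 2 ^ 2 from (dvd_mul_left s r).trans h))
      exact hrs (e1.trans e2.symm)
    · exact h4 7 (by norm_num) h
    · exact h4 13 (by norm_num) h
    · exact h4 5 (by norm_num) h
  by_cases h3 : 3 ∣ r * s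
  swap
  · exfalso
    have hx := mem_left D hF (x := x) (h ▸ h3)
    refine hd x.left ?_
    rw [← h]
    conv_rhs => rw [hx]
    exact (orderOf_injective _ SemidirectProduct.inl_injective _).symm
  obtain ⟨q, hq, hq3, hrq⟩ : ∃ q, q.Prime ∧ q ≠ 3 ∧ r * s = 3 * q := by
    rcases (Nat.Prime.dvd_mul Nat.prime_three).1 h3 with h' | h'
    · have e := (Nat.prime_dvd_prime_iff_eq Nat.prime_three hr).1 h'
      exact ⟨s, hs, fun e' => hrs (e.symm.trans e'.symm), by rw [e]⟩
    · have e := (Nat.prime_dvd_prime_iff_eq Nat.prime_three hs).1 h'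
      exact ⟨r, hr, fun e' => hrs (e'.trans e), by rw [e, mul_comm]⟩
  rw [hrq] at h hd ⊢
  have hxo : orderOf (x ^ 3) = q := by
    rw [orderOf_pow' x (by norm_num), h, Nat.gcd_mul_right_left, Nat.mul_div_cancel_left q (by norm_num)]
  have hn3 : ¬ 3 ∣ orderOf (x ^ 3) := by
    rw [hxo]
    exact fun e => hq3 ((Nat.prime_dvd_prime_iff_eq Nat.prime_three hq).1 e).symm
  have hz := mem_left D hF hn3
  set z := (x ^ 3).left
  have hzo : orderOf z = q := by
    rw [← hxo]
    conv_rhs => rw [hz]
    exact (orderOf_injective _ SemidirectProduct.inl_injective _).symm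
  have hi : x.right.toAdd ≠ 0 := by
    intro e
    have e' : x.right = 1 := e
    have hx : x = SemidirectProduct.inl x.left := by ext <;> simp [e']
    refine hd x.left ?_
    rw [← h]
    conv_rhs => rw [hx]
    exact (orderOf_injective _ SemidirectProduct.inl_injective _).symm
  have hcomm : x.left * fieldAut D hF x.right.toAdd z * x.left⁻¹ = z := by
    have e := (Commute.self_pow x 3).eq
    rw [hz] at e
    have e' := congrArg SemidirectProduct.left e
    simp only [SemidirectProduct.mul_left, SemidirectProduct.left_inl, SemidirectProduct.right_inl,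
      map_one, MulAut.one_apply] at e'
    rw [mul_inv_eq_iff_eq_mul]
    exact e'
  have hq' : q = 2 ∨ q = 5 ∨ q = 7 ∨ q = 13 := by
    rcases order_cases D hF z with e | e | e | e <;> rw [hzo] at e
    · exact Or.inl ((Nat.prime_dvd_prime_iff_eq hq Nat.prime_two).1
        (hq.dvd_of_dvd_pow (show q ∣ 2 ^ 2 from e)))
    · exact Or.inr (Or.inr (Or.inl ((Nat.prime_dvd_prime_iff_eq hq (by norm_num)).1 e)))
    · exact Or.inr (Or.inr (Or.inr ((Nat.prime_dvd_prime_iff_eq hq (by norm_num)).1 e)))
    · exact Or.inr (Or.inl ((Nat.prime_dvd_prime_iff_eq hq (by norm_num)).1 e))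
  rcases hq' with rfl | rfl | rfl | rfl
  · decide
  · decide
  · exact (outer_seven D hF hi hzo hcomm).elim
  · exact (outer_thirteen D hF hi hzo hcomm).elim

theorem inl_ker {n : ℕ} {y : Multiplicative (Fin n → Matrix (Fin 4) (Fin 4) F) ⋊[act D hF n] K D hF}
    (h : y.right = 1) : y ^ 2 = 1 := by
  haveI := D.char2
  have e : y = SemidirectProduct.inl y.left := by ext <;> simp [h]
  rw [e, ← map_pow]
  have h0 : y.left ^ 2 = 1 := by
    apply Multiplicative.toAdd.injective
    rw [toAdd_pow, toAdd_one, two_nsmul]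
    funext t; ext r c
    exact CharTwo.add_self_eq_zero _
  rw [h0, map_one]

/-- No element of order `13` has a non-trivial fixed point. -/
theorem fix_thirteen {n : ℕ} {z : Cfsg.Sz F 1} (hz : orderOf z = 13)
    {v : Multiplicative (Fin n → Matrix (Fin 4) (Fin 4) F)}
    (h : act D hF n (SemidirectProduct.inl z) v = v) : v = 1 := by
  have h' : f1 D n z v = v := by
    rwa [act, SemidirectProduct.lift_inl] at h
  by_contra hv
  obtain ⟨t, ht⟩ : ∃ t, v.toAdd t ≠ 0 := by
    by_contra hc
    push Not at hc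
    exact hv (Multiplicative.toAdd.injective (funext hc))
  have hX : sact D z (v.toAdd t) = v.toAdd t := congrArg (fun w => w.toAdd t) h'
  set X := v.toAdd t
  set J := Cfsg.suzukiForm F
  have hJ : J * J = 1 := congrArg Subtype.val (w_mul_w (F := F))
  have hsym : z.1.1ᵀ * J * z.1.1 = J := S0334.result (le_refl 1) hF z.2
  set B := z.1.1.map (frHom D 1)
  have hJm : J.map (frHom D 1) = J := congrArg Subtype.val (map_w D 1)
  have hB : Bᵀ * J * B = J := by
    have := congrArg (fun M : Matrix (Fin 4) (Fin 4) F => M.map (frHom D 1)) hsym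
    simpa only [B, Matrix.map_mul, Matrix.transpose_map, hJm] using this
  refine no_intertwine D hF hz (frHom D 1) (fun x => fixed_cases D hF (by decide)) (Y := X * J) ?_ ?_
  · intro e
    exact ht (by rw [show X = X * J * J by rw [mul_assoc, hJ, mul_one], e, zero_mul])
  · calc z.1.1 * (X * J) = z.1.1 * X * (Bᵀ * J * B) := by rw [hB]; simp only [mul_assoc]
      _ = (z.1.1 * X * Bᵀ) * J * B := by simp only [mul_assoc]
      _ = X * J * B := by rw [show z.1.1 * X * Bᵀ = X from hX]

/-- Orders of elements of `V ⋊ (Sz(8) ⋊ C₃)` that are products of two primes. -/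
theorem order_H {n : ℕ} (y : Multiplicative (Fin n → Matrix (Fin 4) (Fin 4) F) ⋊[act D hF n] K D hF)
    (r s : ℕ) (hr : r.Prime) (hs : s.Prime) (hrs : r ≠ s) (h : orderOf y = r * s) :
    r * s ∈ edgeProducts := by
  haveI : Finite (K D hF) := Finite.of_equiv _ SemidirectProduct.equivProd.symm
  have hd : orderOf y.right ∣ r * s := h ▸ orderOf_map_dvd SemidirectProduct.rightHom y
  by_cases he : orderOf y.right = r * s
  · exact order_K D hF y.right r s hr hs hrs he
  have hy : (y ^ orderOf y.right) ^ 2 = 1 := inl_ker D hF (by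
    show SemidirectProduct.rightHom (y ^ orderOf y.right) = 1
    rw [map_pow]; exact pow_orderOf_eq_one _)
  rw [← pow_mul] at hy
  have hdvd := orderOf_dvd_of_pow_eq_one hy
  rw [h] at hdvd
  obtain ⟨c, hc⟩ := hd
  have hc2 : c ∣ 2 := by
    have : orderOf y.right * c ∣ orderOf y.right * 2 := hc ▸ hdvd
    exact Nat.dvd_of_mul_dvd_mul_left (orderOf_pos _) this
  obtain ⟨q, hq, hq2, hrq, hoq⟩ : ∃ q, q.Prime ∧ q ≠ 2 ∧ r * s = 2 * q ∧ orderOf y.right = q := by
    rcases (Nat.dvd_prime Nat.prime_two).1 hc2 with rfl | rfl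
    · exact absurd (by rw [hc, mul_one]) he
    have h2 : 2 ∣ r * s := ⟨_, hc.trans (mul_comm _ _)⟩
    rcases (Nat.Prime.dvd_mul Nat.prime_two).1 h2 with h' | h'
    · have e := (Nat.prime_dvd_prime_iff_eq Nat.prime_two hr).1 h'
      refine ⟨s, hs, fun e' => hrs (e.symm.trans e'.symm), by rw [e], ?_⟩
      subst e
      exact Nat.eq_of_mul_eq_mul_right two_pos (by rw [← hc, mul_comm])
    · have e := (Nat.prime_dvd_prime_iff_eq Nat.prime_two hs).1 h'
      refine ⟨r, hr, fun e' => hrs (e'.trans e), by rw [e, mul_comm], ?_⟩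
      subst e
      exact Nat.eq_of_mul_eq_mul_right two_pos (by rw [← hc])
  rw [hrq]
  by_cases h3 : q = 3
  · subst h3; decide
  have hleft := mem_left D hF (x := y.right)
    (hoq ▸ fun e => h3 ((Nat.prime_dvd_prime_iff_eq Nat.prime_three hq).1 e).symm)
  have hzo : orderOf y.right.left = q := by
    rw [← hoq]
    conv_rhs => rw [hleft]
    exact (orderOf_injective _ SemidirectProduct.inl_injective _).symm
  have hq' : q = 5 ∨ q = 7 ∨ q = 13 := by
    rcases order_cases D hF y.right.left with e | e | e | e <;> rw [hzo] at e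
    · exact absurd ((Nat.prime_dvd_prime_iff_eq hq Nat.prime_two).1
        (hq.dvd_of_dvd_pow (show q ∣ 2 ^ 2 from e))) hq2
    · exact Or.inr (Or.inl ((Nat.prime_dvd_prime_iff_eq hq (by norm_num)).1 e))
    · exact Or.inr (Or.inr ((Nat.prime_dvd_prime_iff_eq hq (by norm_num)).1 e))
    · exact Or.inl ((Nat.prime_dvd_prime_iff_eq hq (by norm_num)).1 e)
  rcases hq' with rfl | rfl | rfl
  · decide
  · decide
  exfalso
  have hne : y ^ 13 ≠ 1 := fun e => by
    have := orderOf_dvd_of_pow_eq_one e
    rw [h, hrq] at this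
    omega
  have hr13 : (y ^ 13).right = 1 := by
    show SemidirectProduct.rightHom (y ^ 13) = 1
    rw [map_pow, ← hoq]; exact pow_orderOf_eq_one _
  have hfix : act D hF n y.right (y ^ 13).left = (y ^ 13).left := by
    have e := congrArg SemidirectProduct.left (Commute.self_pow y 13).eq
    rw [SemidirectProduct.mul_left, SemidirectProduct.mul_left, hr13, map_one, MulAut.one_apply,
      mul_comm (y ^ 13).left] at e
    exact mul_left_cancel e
  rw [hleft] at hfix
  refine hne ?_
  have := fix_thirteen D hF hzo hfix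
  ext <;> simp [this, hr13]

end

theorem five_check :
    let M : Matrix (Fin 4) (Fin 4) (ZMod 2) := !![1, 1, 0, 1; 1, 0, 1, 0; 0, 1, 0, 0; 1, 0, 0, 0]
    M * M * M * M * M = 1 := by decide +kernel

/-- The product of commuting elements of coprime prime orders. -/
theorem orderOf_pair {G : Type*} [Group G] {a b : G} {p q : ℕ} (ha : orderOf a = p) (hb : orderOf b = q)
    (h : Commute a b) (hc : Nat.Coprime p q) : orderOf (a * b) = p * q := by
  rw [h.orderOf_mul_eq_mul_orderOf_of_coprime (by rw [ha, hb]; exact hc), ha, hb]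

/-- The required family of groups. -/
theorem exists_group (N : ℕ) :
    ∃ (H : Type) (_ : Group H) (_ : Finite H), N < Nat.card H ∧
      (∀ p : ℕ, p.Prime → (p ∣ Nat.card H ↔ p ∈ [2, 3, 5, 7, 13])) ∧
      ∀ p q : ℕ, p.Prime → q.Prime → p ≠ q →
        ((∃ g : H, orderOf g = p * q) ↔ p * q ∈ edgeProducts) := by
  classical
  haveI : Fact (Nat.Prime 2) := ⟨Nat.prime_two⟩
  let F := GaloisField 2 3
  letI : Fintype F := Fintype.ofFinite F
  have hF : Fintype.card F = 2 ^ (2 * 1 + 1) := by
    rw [← Nat.card_eq_fintype_card]; exact GaloisField.card 2 3 (by norm_num)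
  obtain ⟨D⟩ := exists_dat (le_refl 1) hF
  haveI := D.char2
  let n := N + 1
  let W := Multiplicative (Fin n → Matrix (Fin 4) (Fin 4) F)
  haveI : Finite W := inferInstanceAs (Finite (Fin n → Matrix (Fin 4) (Fin 4) F))
  haveI : Finite (K D hF) := Finite.of_equiv _ SemidirectProduct.equivProd.symm
  let H := W ⋊[act D hF n] K D hF
  haveI : Finite H := Finite.of_equiv _ SemidirectProduct.equivProd.symm
  have hW : Nat.card W = (8 ^ 16) ^ n := by
    rw [Nat.card_congr (Multiplicative.toAdd (α := Fin n → Matrix (Fin 4) (Fin 4) F)), Nat.card_fun,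
      Nat.card_congr (Matrix.of.symm : Matrix (Fin 4) (Fin 4) F ≃ _), Nat.card_fun, Nat.card_fun,
      Nat.card_eq_fintype_card (α := F), hF, Nat.card_fin, Nat.card_fin]
    norm_num
  have hK : Nat.card (K D hF) = 87360 := by
    rw [Nat.card_congr SemidirectProduct.equivProd, Nat.card_prod, S0324.result (le_refl 1) hF]
    simp
  have hcard : Nat.card H = (8 ^ 16) ^ n * 87360 := by
    rw [Nat.card_congr SemidirectProduct.equivProd, Nat.card_prod, hW, hK]
  refine ⟨H, inferInstance, inferInstance, ?_, fun p hp => ?_, fun p q hp hq hpq => ⟨?_, ?_⟩⟩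
  · rw [hcard]
    have h1 : n < (8 ^ 16) ^ n := Nat.lt_pow_self (by norm_num)
    have h2 : (8 ^ 16) ^ n ≤ (8 ^ 16) ^ n * 87360 := Nat.le_mul_of_pos_right _ (by norm_num)
    omega
  · rw [hcard]
    constructor
    · intro h
      rw [← pow_mul, show (87360 : ℕ) = 2 ^ 6 * (3 * (5 * (7 * 13))) by norm_num,
        show (8 : ℕ) = 2 ^ 3 by norm_num, ← pow_mul, ← mul_assoc, ← pow_add] at h
      simp only [List.mem_cons, List.not_mem_nil, or_false]
      rcases hp.dvd_mul.1 h with h | h
      · exact Or.inl ((Nat.prime_dvd_prime_iff_eq hp Nat.prime_two).1 (hp.dvd_of_dvd_pow h))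
      rcases hp.dvd_mul.1 h with h | h
      · exact Or.inr (Or.inl ((Nat.prime_dvd_prime_iff_eq hp Nat.prime_three).1 h))
      rcases hp.dvd_mul.1 h with h | h
      · exact Or.inr (Or.inr (Or.inl ((Nat.prime_dvd_prime_iff_eq hp (by norm_num)).1 h)))
      rcases hp.dvd_mul.1 h with h | h
      · exact Or.inr (Or.inr (Or.inr (Or.inl ((Nat.prime_dvd_prime_iff_eq hp (by norm_num)).1 h))))
      · exact Or.inr (Or.inr (Or.inr (Or.inr ((Nat.prime_dvd_prime_iff_eq hp (by norm_num)).1 h))))
    · intro h
      refine Dvd.dvd.mul_left ?_ _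
      simp only [List.mem_cons, List.not_mem_nil, or_false] at h
      rcases h with rfl | rfl | rfl | rfl | rfl <;> norm_num
  · rintro ⟨g, hg⟩
    exact order_H D hF g p q hp hq hpq hg
  intro hpq'
  -- elements of orders 2, 3, 5, 7
  let σ : K D hF := SemidirectProduct.inr (Multiplicative.ofAdd 1)
  have hσ : orderOf σ = 3 := by
    haveI : Fact (Nat.Prime 3) := ⟨Nat.prime_three⟩
    rw [orderOf_injective _ SemidirectProduct.inr_injective]
    exact orderOf_eq_prime (by decide) (by decide)
  have hσg : ∀ g : Cfsg.Sz F 1, fieldAut D hF 1 g = g → Commute σ (SemidirectProduct.inl g) := by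
    intro g hg
    show σ * SemidirectProduct.inl g = SemidirectProduct.inl g * σ
    ext1
    · simp only [σ, SemidirectProduct.mul_left, SemidirectProduct.left_inr, SemidirectProduct.left_inl,
        SemidirectProduct.right_inr, SemidirectProduct.right_inl, one_mul, map_one, mul_one]
      exact hg
    · simp [σ]
  let t2 : Cfsg.Sz F 1 := gT D 0 1
  have hTval : (t2.1.1 : Matrix (Fin 4) (Fin 4) F) = !![1, 0, 1, 1; 0, 1, 0, 1; 0, 0, 1, 0; 0, 0, 0, 1] := by
    show tMat D.θ 0 1 = _
    simp [tMat, ov]
  have two : (2 : F) = 0 := D.two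
  have ht2 : orderOf t2 = 2 := by
    refine orderOf_eq_prime (Subtype.ext (Subtype.ext ?_)) fun e => ?_
    · show (t2.1 ^ 2).1 = 1
      rw [pow_two, Matrix.SpecialLinearGroup.coe_mul, hTval]
      ext r c; fin_cases r <;> fin_cases c <;> simp [Matrix.mul_apply, Fin.sum_univ_four, CharTwo.add_self_eq_zero]
    · have := congrArg (fun g : Cfsg.Sz F 1 => g.1.1 0 2) e
      rw [show (t2.1.1 : Matrix (Fin 4) (Fin 4) F) 0 2 = 1 by rw [hTval]; simp] at this
      simp at this
  have hσt2 : fieldAut D hF 1 t2 = t2 := by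
    show fieldAut D hF 1 (gT D 0 1) = gT D 0 1
    rw [fieldAut_gT, map_zero, map_one]
  let g5 : Cfsg.Sz F 1 := gT D 0 1 * gw D
  have h5val : (g5.1.1 : Matrix (Fin 4) (Fin 4) F) = !![1, 1, 0, 1; 1, 0, 1, 0; 0, 1, 0, 0; 1, 0, 0, 0] := by
    show (t2.1.1 : Matrix (Fin 4) (Fin 4) F) * Cfsg.suzukiForm F = _
    rw [hTval]
    ext r c; fin_cases r <;> fin_cases c <;> simp [Cfsg.suzukiForm, Matrix.mul_apply, Fin.sum_univ_four]
  have hg5 : orderOf g5 = 5 := by
    haveI : Fact (Nat.Prime 5) := ⟨by norm_num⟩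
    let M : Matrix (Fin 4) (Fin 4) (ZMod 2) := !![1, 1, 0, 1; 1, 0, 1, 0; 0, 1, 0, 0; 1, 0, 0, 0]
    have hM : M * M * M * M * M = 1 := five_check
    have hMF : (g5.1.1 : Matrix (Fin 4) (Fin 4) F) = (ZMod.castHom (dvd_refl 2) F).mapMatrix M := by
      rw [h5val]
      ext r c; fin_cases r <;> fin_cases c <;> simp [M, RingHom.mapMatrix_apply]
    refine orderOf_eq_prime (Subtype.ext (Subtype.ext ?_)) fun e => ?_
    · show (g5.1 ^ 5).1 = 1
      simp only [pow_succ, pow_zero, one_mul, Matrix.SpecialLinearGroup.coe_mul, hMF, ← map_mul, hM, map_one]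
    · have := congrArg (fun g : Cfsg.Sz F 1 => g.1.1 0 1) e
      rw [show (g5.1.1 : Matrix (Fin 4) (Fin 4) F) 0 1 = 1 by rw [h5val]; simp] at this
      simp at this
  have hσ5 : fieldAut D hF 1 g5 = g5 := by
    show fieldAut D hF 1 (gT D 0 1 * gw D) = gT D 0 1 * gw D
    rw [map_mul]
    congr 1
    exact Subtype.ext (map_w D 1)
  obtain ⟨x, hx⟩ : ∃ x : Fˣ, x ≠ 1 := by
    haveI : Nontrivial Fˣ := Fintype.one_lt_card_iff_nontrivial.1 (by rw [Fintype.card_units, hF]; norm_num)
    exact exists_ne 1
  have hx7 : orderOf (gH D x) = 7 := by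
    haveI : Fact (Nat.Prime 7) := ⟨by norm_num⟩
    refine orderOf_eq_prime ?_ fun e => hx (gH_inj D (e.trans (gH_one D).symm))
    have hp : ∀ k : ℕ, gH D x ^ k = gH D (x ^ k) := by
      intro k
      induction k with
      | zero => rw [pow_zero, pow_zero, gH_one]
      | succ k ih => rw [pow_succ, pow_succ, ih, gH_mul]
    rw [hp, show x ^ 7 = 1 by
      have := pow_card_eq_one (G := Fˣ) (x := x)
      rwa [Fintype.card_units, hF] at this, gH_one]
  have mkv : ∀ (g : Cfsg.Sz F 1) (X : Matrix (Fin 4) (Fin 4) F), X ≠ 0 → sact D g X = X →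
      ∃ v : H, orderOf v = 2 ∧ Commute v (SemidirectProduct.inr (SemidirectProduct.inl g)) := by
    intro g X hX hfix
    let Z : W := Multiplicative.ofAdd fun _ => X
    refine ⟨SemidirectProduct.inl Z, ?_, ?_⟩
    · refine orderOf_eq_prime (inl_ker D hF (SemidirectProduct.right_inl _)) fun e => hX ?_
      exact congrFun (congrArg Multiplicative.toAdd (congrArg SemidirectProduct.left e)) 0
    · show SemidirectProduct.inl Z * _ = _
      have hh : act D hF n (SemidirectProduct.inl g) Z = Z := by
        rw [act, SemidirectProduct.lift_inl]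
        exact Multiplicative.toAdd.injective (funext fun t => hfix)
      refine SemidirectProduct.ext ?_ ?_
      · show Z * act D hF n (1 : K D hF) 1 = 1 * act D hF n (SemidirectProduct.inl g) Z
        rw [map_one, mul_one, one_mul, hh]
      · show (1 : K D hF) * SemidirectProduct.inl g = SemidirectProduct.inl g * 1
        rw [one_mul, mul_one]
  simp only [edgeProducts, List.mem_cons, List.not_mem_nil, or_false] at hpq'
  rcases hpq' with h | h | h | h <;> rw [h]
  · exact ⟨SemidirectProduct.inr (SemidirectProduct.inl t2 * σ), by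
      rw [orderOf_injective _ SemidirectProduct.inr_injective]
      exact orderOf_pair ((orderOf_injective _ SemidirectProduct.inl_injective _).trans ht2) hσ
        (hσg _ hσt2).symm (by norm_num)⟩
  · have hJ : sact D g5 (Cfsg.suzukiForm F) = Cfsg.suzukiForm F := by
      have hJ : Cfsg.suzukiForm F * Cfsg.suzukiForm F = 1 := congrArg Subtype.val (w_mul_w (F := F))
      have hs := S0334.result (le_refl 1) hF g5.2
      have hB : g5.1.1.map (frHom D 1) = g5.1.1 := congrArg (fun g : Cfsg.Sz F 1 => g.1.1) hσ5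
      rw [sact, hB]
      set A := g5.1.1
      set J := Cfsg.suzukiForm F
      have h1 : (J * Aᵀ * J) * A = 1 := by rw [mul_assoc J Aᵀ J, mul_assoc, hs, hJ]
      have h2 : A * (J * Aᵀ * J) = 1 := mul_eq_one_comm.1 h1
      calc A * J * Aᵀ = A * J * Aᵀ * (J * J) := by rw [hJ, mul_one]
        _ = A * (J * Aᵀ * J) * J := by simp only [mul_assoc]
        _ = J := by rw [h2, one_mul]
    obtain ⟨v, hv, hc⟩ := mkv g5 _ (fun e => (one_ne_zero : (1 : F) ≠ 0) (by
      have := congrFun (congrFun e 0) 3; simpa [Cfsg.suzukiForm] using this)) hJ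
    exact ⟨v * _, orderOf_pair hv (by
      rw [orderOf_injective _ SemidirectProduct.inr_injective,
        orderOf_injective _ SemidirectProduct.inl_injective, hg5]) hc (by norm_num)⟩
  · have hfix : sact D (gH D x) (Matrix.single 0 1 1) = Matrix.single 0 1 1 := by
      show Matrix.diagonal (hVec D.θ x) * _ * ((Matrix.diagonal (hVec D.θ x)).map (frHom D 1))ᵀ = _
      rw [Matrix.diagonal_map (map_zero _), Matrix.diagonal_transpose]
      ext r c
      rw [Matrix.mul_diagonal, Matrix.diagonal_mul]
      rcases eq_or_ne r 0 with rfl | hr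
      swap; · simp [Matrix.single, hr.symm]
      rcases eq_or_ne c 1 with rfl | hc
      swap; · simp [Matrix.single, hc.symm]
      have h7 : (x : F) ^ 7 = 1 := by
        have := FiniteField.pow_card_sub_one_eq_one (x : F) x.ne_zero
        rwa [hF] at this
      have hone : (1 : ZMod (2 * 1 + 1)).val = 1 := rfl
      simp only [Matrix.single, Matrix.of_apply, and_self, if_true, mul_one, hVec, Matrix.cons_val_zero,
        Matrix.cons_val_one, Function.comp_apply, frHom_apply, fr, hone, D.pow]
      calc _ = ((x : F) ^ 7) ^ 2 := by ring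
        _ = 1 := by rw [h7, one_pow]
    obtain ⟨v, hv, hc⟩ := mkv (gH D x) _ (fun e => (one_ne_zero : (1 : F) ≠ 0) (by
      have := congrFun (congrFun e 0) 1; simpa using this)) hfix
    exact ⟨v * _, orderOf_pair hv (by
      rw [orderOf_injective _ SemidirectProduct.inr_injective,
        orderOf_injective _ SemidirectProduct.inl_injective, hx7]) hc (by norm_num)⟩
  · exact ⟨SemidirectProduct.inr (SemidirectProduct.inl g5 * σ), by
      rw [orderOf_injective _ SemidirectProduct.inr_injective]
      exact (orderOf_pair ((orderOf_injective _ SemidirectProduct.inl_injective _).trans hg5) hσ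
        (hσg _ hσ5).symm (by norm_num)).trans (by norm_num)⟩

end Cfsg.Agent.Recog.SzEightGraph
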