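import Cfsg.Agent.Lib.Forms.Sp
import Mathlib

/-!
# Explicit elements of `Sp(6,3)`
-/

set_option autoImplicit false
set_option maxRecDepth 20000

namespace Cfsg.Agent.Recog.SpSixThree

open scoped Matrix

/-- The index set of `Sp(6,3)`. -/
abbrev Ix := Fin 3 ⊕ Fin 3

/-- Matrices. -/
abbrev M6 := Matrix Ix Ix (ZMod 3)

/-- The position of an index. -/
def pos : Ix → ℕ
  | .inl i => i.val
  | .inr i => 3 + i.val

/-- A ternary digit. -/
def dig : ℕ → ZMod 3
  | 0 => 0
  | 1 => 1
  | _ => 2

/-- A matrix stored as a ternary numeral. -/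
def dec (N : ℕ) : M6 := Matrix.of fun i j => dig (N / 3 ^ (6 * pos i + pos j) % 3)

/-- A vector of the standard basis. -/
def v0 : Ix → ZMod 3 := fun i => if pos i = 0 then 1 else 0

/-- Powers of an element. -/
def p13 (i : ℕ) : M6 := dec (([50054432356593028, 51505437839085753, 23088722659747566, 45225173354645291, 145199304973915668, 96347527130180908, 73237184810547510, 94751912565585060, 101555792741979386, 72842973050095598, 1642276847912981, 123569203058510663, 22731064535931101, 100108864713186056, 101155207465296705, 46169814555845175, 23642487099739123, 73526601918965274, 123232540559579696, 146268478345445448, 122771939093958720, 51086780229309214, 144861438590341642, 1133852641599283, 95189807475361216, 44834286603409231, 50054432356593028] : List ℕ).getD i 0)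

theorem p13_zero : p13 0 = 1 := by decide +kernel

theorem p13_succ : ∀ i : Fin 26, p13 (i.val + 1) = p13 i.val * p13 1 := by decide +kernel

theorem p13_symp : p13 1 * Matrix.J (Fin 3) (ZMod 3) * (p13 1)ᵀ = Matrix.J (Fin 3) (ZMod 3) := by
  decide +kernel

/-- Powers of an element. -/
def p28 (i : ℕ) : M6 := dec (([50054432356593028, 134396115011620287, 58155719452159267, 41762088750004899, 21823723879686443, 78541060965117573, 135844055457021251, 75590083195557059, 69165507948973849, 45201407270940092, 116358783565680338, 86280501269451275, 2839820177636542, 106319064887173265, 100108864713186056, 68437281696255759, 116311313379305900, 33284094397195188, 35927797234677265, 140401267091413278, 70737193209838981, 149319426317551678, 137438523324118703, 23668287284165563, 58522559965243738, 121908865088507764, 5473341120947501, 62543400334166149, 50054432356593028] : List ℕ).getD i 0)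

theorem p28_zero : p28 0 = 1 := by decide +kernel

theorem p28_succ : ∀ i : Fin 28, p28 (i.val + 1) = p28 i.val * p28 1 := by decide +kernel

theorem p28_symp : p28 1 * Matrix.J (Fin 3) (ZMod 3) * (p28 1)ᵀ = Matrix.J (Fin 3) (ZMod 3) := by
  decide +kernel

/-- Powers of an element. -/
def p6 (i : ℕ) : M6 := dec (([50054432356593028, 79522276318391270, 50054474972927115, 79522317772284475, 50054485045937942, 79522360388616132, 50054432356593028] : List ℕ).getD i 0)

theorem p6_zero : p6 0 = 1 := by decide +kernel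

theorem p6_succ : ∀ i : Fin 6, p6 (i.val + 1) = p6 i.val * p6 1 := by decide +kernel

theorem p6_symp : p6 1 * Matrix.J (Fin 3) (ZMod 3) * (p6 1)ᵀ = Matrix.J (Fin 3) (ZMod 3) := by
  decide +kernel

/-- Powers of an element. -/
def p10 (i : ℕ) : M6 := dec (([50054432356593028, 85265550558551665, 21341839988460659, 47708837172579400, 15743552343931243, 40016827410399235, 114664840566917104, 110742015786144143, 58371751558566835, 138497997347812585, 50054432356593028] : List ℕ).getD i 0)

theorem p10_zero : p10 0 = 1 := by decide +kernel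

theorem p10_succ : ∀ i : Fin 10, p10 (i.val + 1) = p10 i.val * p10 1 := by decide +kernel

theorem p10_symp : p10 1 * Matrix.J (Fin 3) (ZMod 3) * (p10 1)ᵀ = Matrix.J (Fin 3) (ZMod 3) := by
  decide +kernel

/-- Powers of an element. -/
def p15 (i : ℕ) : M6 := dec (([50054432356593028, 207689183248176, 103959757437356227, 6437052015156271, 70782058325749923, 109351078538558329, 59504335336514907, 7602707755766884, 65733698197121545, 124519643898112224, 12994028871317866, 113241920951924658, 61340293371176554, 102794101696745695, 28162593829102284, 50054432356593028] : List ℕ).getD i 0)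

theorem p15_zero : p15 0 = 1 := by decide +kernel

theorem p15_succ : ∀ i : Fin 15, p15 (i.val + 1) = p15 i.val * p15 1 := by decide +kernel

theorem p15_symp : p15 1 * Matrix.J (Fin 3) (ZMod 3) * (p15 1)ᵀ = Matrix.J (Fin 3) (ZMod 3) := by
  decide +kernel

/-- Powers of an element. -/
def p14 (i : ℕ) : M6 := dec (([50054432356593028, 134396115011620287, 58155719452159267, 41762088750004899, 21823723879686443, 78541060965117573, 135844055457021251, 75590083195557059, 69165507948973849, 45201407270940092, 116358783565680338, 86280501269451275, 2839820177636542, 106319064887173265, 100108864713186056] : List ℕ).getD i 0)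

theorem p14_zero : p14 0 = 1 := by decide +kernel

theorem p14_succ : ∀ i : Fin 14, p14 (i.val + 1) = p14 i.val * p14 1 := by decide +kernel

theorem p14_symp : p14 1 * Matrix.J (Fin 3) (ZMod 3) * (p14 1)ᵀ = Matrix.J (Fin 3) (ZMod 3) := by
  decide +kernel

theorem p6_checks : (p6 6 = 1 ∨ p6 6 = -1) ∧ p6 2 ≠ 1 ∧ p6 2 ≠ -1 ∧ p6 3 ≠ 1 ∧
    p6 3 ≠ -1 := by
  decide +kernel

theorem p10_checks : (p10 10 = 1 ∨ p10 10 = -1) ∧ p10 2 ≠ 1 ∧ p10 2 ≠ -1 ∧ p10 5 ≠ 1 ∧
    p10 5 ≠ -1 := by
  decide +kernel

theorem p15_checks : (p15 15 = 1 ∨ p15 15 = -1) ∧ p15 3 ≠ 1 ∧ p15 3 ≠ -1 ∧ p15 5 ≠ 1 ∧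
    p15 5 ≠ -1 := by
  decide +kernel

theorem p14_checks : (p14 14 = 1 ∨ p14 14 = -1) ∧ p14 2 ≠ 1 ∧ p14 2 ≠ -1 ∧ p14 7 ≠ 1 ∧
    p14 7 ≠ -1 := by
  decide +kernel

theorem p13_checks : p13 13 = -1 ∧ p13 26 = 1 ∧ p13 2 ≠ 1 := by decide +kernel

theorem p28_checks : p28 28 = 1 ∧ p28 4 ≠ 1 := by decide +kernel

/-- The Krylov matrix of `p13 14` on `v0`. -/
def a13 : M6 := Matrix.of fun i j => (p13 (14 * pos j % 26) *ᵥ v0) i

/-- The Krylov matrix of `p28 4` on `v0`. -/
def a28 : M6 := Matrix.of fun i j => (p28 (4 * pos j % 28) *ᵥ v0) i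

theorem a13_inv : a13 * dec 140243303825142625 = 1 := by decide +kernel

theorem a28_inv : a28 * dec 6966458427816826 = 1 := by decide +kernel

/-- The vector with given coordinates. -/
def mkv (a b c d e f : ZMod 3) : Ix → ZMod 3 := Sum.elim ![a, b, c] ![d, e, f]

/-- The value of the form. -/
def om (u v : Ix → ZMod 3) : ZMod 3 :=
  ∑ i : Fin 3, (u (.inr i) * v (.inl i) - u (.inl i) * v (.inr i))

theorem orbit13 : ∀ a b c d e f : ZMod 3,
    (∀ k : Fin 5, om (mkv a b c d e f) (p13 (14 * (k.val + 1) % 26) *ᵥ mkv a b c d e f) =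
      om v0 (p13 (14 * (k.val + 1) % 26) *ᵥ v0)) →
    ∃ i : Fin 26, mkv a b c d e f = p13 i.val *ᵥ v0 := by
  decide +kernel

theorem orbit28 : ∀ a b c d e f : ZMod 3,
    (∀ k : Fin 5, om (mkv a b c d e f) (p28 (4 * (k.val + 1) % 28) *ᵥ mkv a b c d e f) =
      om v0 (p28 (4 * (k.val + 1) % 28) *ᵥ v0)) →
    ∃ i : Fin 28, mkv a b c d e f = p28 i.val *ᵥ v0 := by
  decide +kernel

end Cfsg.Agent.Recog.SpSixThree
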