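import Cfsg.Prelude.Def_Classical
import Cfsg.Agent.Lib.Recog.SzEightGraph.SpData
import Cfsg.Agent.Lib.Forms.SpOrder
import Cfsg.Agent.Lib.SmallSimple.Basic
import Cfsg.Agent.S0246
import Mathlib

/-!
# The prime graph of `PSp(6,3)`
-/

set_option autoImplicit false

namespace Cfsg.Agent.Recog.SpSixThree

open scoped Matrix Pointwise

instance : Fact (Nat.Prime 3) := ⟨Nat.prime_three⟩

/-- `Sp(6,3)`. -/
abbrev Sp63 := Matrix.symplecticGroup (Fin 3) (ZMod 3)

theorem card_Sp63 : Nat.card Sp63 = 9170703360 := by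
  rw [FormsLib.card_symplecticGroup, ZMod.card]
  decide +kernel

theorem center_cases {c : Sp63} (hc : c ∈ Subgroup.center Sp63) : c.1 = 1 ∨ c.1 = -1 := by
  classical
  have h2 : Nat.card (Subgroup.center Sp63) = 2 := by
    rw [S0246.result (ZMod.card 3) 3 (by norm_num)]; rfl
  have hneg : (-1 : M6) ∈ Matrix.symplecticGroup (Fin 3) (ZMod 3) := by
    rw [SymplecticGroup.mem_iff]; simp
  let n : Sp63 := ⟨-1, hneg⟩
  have hn : n ∈ Subgroup.center Sp63 := Subgroup.mem_center_iff.2 fun g => Subtype.ext (by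
    show g.1 * (-1 : M6) = -1 * g.1
    simp)
  have hne : n ≠ 1 := fun e => by
    have := congrArg (fun g : Sp63 => g.1 (.inl 0) (.inl 0)) e
    exact absurd (by simpa [n] using this) (by decide : ¬ ((-1 : ZMod 3) = 1))
  haveI := Fintype.ofFinite (Subgroup.center Sp63)
  rw [Nat.card_eq_fintype_card, ← Finset.card_univ] at h2
  obtain ⟨a, b, hab, he⟩ := Finset.card_eq_two.1 h2
  have hall : ∀ x : Subgroup.center Sp63, x = a ∨ x = b := fun x => by
    have := Finset.mem_univ x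
    rw [he] at this
    simpa using this
  have h1 := hall ⟨1, one_mem _⟩
  have hn' := hall ⟨n, hn⟩
  have hx := hall ⟨c, hc⟩
  have hne' : (⟨n, hn⟩ : Subgroup.center Sp63) ≠ ⟨1, one_mem _⟩ := fun e => hne (congrArg Subtype.val e)
  have : (⟨c, hc⟩ : Subgroup.center Sp63) = ⟨1, one_mem _⟩ ∨ (⟨c, hc⟩ : Subgroup.center Sp63) = ⟨n, hn⟩ := by
    rcases h1 with e1 | e1 <;> rcases hn' with e2 | e2 <;> rcases hx with e3 | e3 <;>
      first
        | exact Or.inl (e3.trans e1.symm)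
        | exact Or.inr (e3.trans e2.symm)
        | exact absurd (e2.trans e1.symm) hne'
  rcases this with e | e
  · exact Or.inl (congrArg (fun x : Subgroup.center Sp63 => x.1.1) e)
  · exact Or.inr (congrArg (fun x : Subgroup.center Sp63 => x.1.1) e)

theorem mem_center_of_neg {c : Sp63} (h : c.1 = 1 ∨ c.1 = -1) : c ∈ Subgroup.center Sp63 :=
  Subgroup.mem_center_iff.2 fun g => Subtype.ext (by
    show g.1 * c.1 = c.1 * g.1
    rcases h with e | e <;> simp [e])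

theorem pow_table (p : ℕ → M6) (N : ℕ) (h0 : p 0 = 1)
    (hs : ∀ i : Fin N, p (i.val + 1) = p i.val * p 1) : ∀ i ≤ N, p i = p 1 ^ i := by
  intro i
  induction i with
  | zero => intro _; rw [h0, pow_zero]
  | succ i ih => intro hi; rw [hs ⟨i, hi⟩, ih (by omega), pow_succ]

theorem pow_table_mod (p : ℕ → M6) (N : ℕ) (hN : 0 < N) (h0 : p 0 = 1)
    (hs : ∀ i : Fin N, p (i.val + 1) = p i.val * p 1) (hp : p N = 1) (i : ℕ) : p (i % N) = p 1 ^ i := by
  have := pow_table p N h0 hs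
  rw [this _ (Nat.mod_lt _ hN).le]
  exact (pow_eq_pow_mod i ((this N le_rfl).symm.trans hp)).symm

theorem om_symp (g : Sp63) (u v : Ix → ZMod 3) : om (g.1 *ᵥ u) (g.1 *ᵥ v) = om u v := by
  have h := (FormsLib.mem_symplectic_iff g.1).1 g.2 u v
  rw [FormsLib.spB_expand, FormsLib.spB_expand] at h
  exact h

/-- The centraliser of an element with a cyclic vector is detected by an orbit. -/
theorem commutant (p : ℕ → M6) (N k₀ : ℕ) (hN : 0 < N) (h0 : p 0 = 1)
    (hs : ∀ i : Fin N, p (i.val + 1) = p i.val * p 1) (hp : p N = 1)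
    (hsymp : p 1 * Matrix.J (Fin 3) (ZMod 3) * (p 1)ᵀ = Matrix.J (Fin 3) (ZMod 3))
    (A' : M6) (hA : (Matrix.of fun i j => (p (k₀ * pos j % N) *ᵥ v0) i : M6) * A' = 1)
    (horb : ∀ a b c d e f : ZMod 3,
      (∀ k : Fin 5, om (mkv a b c d e f) (p (k₀ * (k.val + 1) % N) *ᵥ mkv a b c d e f) =
        om v0 (p (k₀ * (k.val + 1) % N) *ᵥ v0)) →
      ∃ i : Fin N, mkv a b c d e f = p i.val *ᵥ v0) :
    ∃ y : Sp63, y.1 = p 1 ∧ y ^ N = 1 ∧ ∀ c : Sp63, Commute c (y ^ k₀) → ∃ i : ℕ, c = y ^ i := by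
  let y : Sp63 := ⟨p 1, SymplecticGroup.mem_iff.2 hsymp⟩
  have hy : ∀ i, (y ^ i).1 = p (i % N) := fun i => by
    rw [pow_table_mod p N hN h0 hs hp, SubmonoidClass.coe_pow]
  refine ⟨y, rfl, Subtype.ext (by rw [hy, Nat.mod_self, h0]; rfl), fun c hc => ?_⟩
  have hck : ∀ k : ℕ, ∀ v, c.1 *ᵥ (p (k₀ * k % N) *ᵥ v) = p (k₀ * k % N) *ᵥ (c.1 *ᵥ v) := by
    intro k v
    rw [Matrix.mulVec_mulVec, Matrix.mulVec_mulVec, ← hy, pow_mul]
    exact congrArg (· *ᵥ v) (congrArg Subtype.val (hc.pow_right k).eq)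
  set u := c.1 *ᵥ v0
  have hu : mkv (u (.inl 0)) (u (.inl 1)) (u (.inl 2)) (u (.inr 0)) (u (.inr 1)) (u (.inr 2)) = u := by
    funext i
    rcases i with i | i <;> fin_cases i <;> rfl
  obtain ⟨i, hi⟩ := horb (u (.inl 0)) (u (.inl 1)) (u (.inl 2)) (u (.inr 0)) (u (.inr 1)) (u (.inr 2))
    (fun k => by rw [hu, ← hck, om_symp])
  rw [hu] at hi
  refine ⟨i.val, Subtype.ext ?_⟩
  have hmat : c.1 * (Matrix.of fun r j => (p (k₀ * pos j % N) *ᵥ v0) r : M6) =
      (y ^ i.val).1 * (Matrix.of fun r j => (p (k₀ * pos j % N) *ᵥ v0) r : M6) := by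
    ext r j
    show (c.1 *ᵥ (p (k₀ * pos j % N) *ᵥ v0)) r = ((y ^ i.val).1 *ᵥ (p (k₀ * pos j % N) *ᵥ v0)) r
    rw [hck, show c.1 *ᵥ v0 = u from rfl, hi, hy, Nat.mod_eq_of_lt i.isLt, Matrix.mulVec_mulVec,
      Matrix.mulVec_mulVec, pow_table_mod p N hN h0 hs hp, pow_table p N h0 hs i.val i.isLt.le,
      ← pow_add, ← pow_add, add_comm]
  calc c.1 = c.1 * ((Matrix.of fun r j => (p (k₀ * pos j % N) *ᵥ v0) r : M6) * A') := by rw [hA, mul_one]
    _ = (y ^ i.val).1 := by rw [← mul_assoc, hmat, mul_assoc, hA, mul_one]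

/-- Reduction of a centraliser question to a chosen element of prime order. -/
theorem conj_reduce {G : Type*} [Group G] [Finite G] {q m : ℕ} [hq : Fact q.Prime]
    (hG : Nat.card G = q * m) (hm : ¬ q ∣ m) {z z₀ : G} (hz : orderOf z = q) (hz₀ : orderOf z₀ = q)
    (c : G) (hc : Commute c z) : ∃ k : G, Commute (k * c * k⁻¹) z₀ := by
  have key : ∀ w : G, orderOf w = q → ∃ P : Sylow q G, (P : Subgroup G) = Subgroup.zpowers w := by
    intro w hw
    have hp : IsPGroup q (Subgroup.zpowers w) := IsPGroup.of_card (n := 1) (by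
      rw [Nat.card_zpowers, hw, pow_one])
    obtain ⟨P, hP⟩ := hp.exists_le_sylow
    refine ⟨P, (Subgroup.eq_of_le_of_card_ge hP ?_).symm⟩
    rw [SmallSimple.card_sylow_of_eq (k := 1) (m := m) P (by rw [pow_one, hG]) hm, pow_one,
      Nat.card_zpowers, hw]
  obtain ⟨P, hP⟩ := key z hz
  obtain ⟨P₀, hP₀⟩ := key z₀ hz₀
  obtain ⟨k, hk⟩ := MulAction.exists_smul_eq G P P₀
  refine ⟨k, ?_⟩
  have hk' : MulAut.conj k • (P : Subgroup G) = (P₀ : Subgroup G) := congrArg Sylow.toSubgroup hk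
  have hmem : z₀ ∈ MulAut.conj k • (P : Subgroup G) := by
    rw [hk', hP₀]; exact Subgroup.mem_zpowers z₀
  rw [Subgroup.mem_pointwise_smul_iff_inv_smul_mem, hP, Subgroup.mem_zpowers_iff] at hmem
  obtain ⟨j, hj⟩ := hmem
  have hz0 : k * z ^ j * k⁻¹ = z₀ := by
    rw [hj]; simp [mul_assoc]
  rw [← hz0]
  exact (hc.zpow_right j).map (MulAut.conj k).toMonoidHom

theorem centralizer_thirteen {z c : Sp63} (hz : orderOf z = 13) (h : Commute c z) :
    c ^ 13 ∈ Subgroup.center Sp63 := by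
  haveI : Fact (Nat.Prime 13) := ⟨by norm_num⟩
  obtain ⟨y, hy1, hyN, hy⟩ := commutant p13 26 14 (by norm_num) p13_zero p13_succ p13_checks.2.1
    p13_symp _ a13_inv orbit13
  have hy13 : (y ^ 13).1 = -1 := by
    rw [SubmonoidClass.coe_pow, hy1, ← pow_table p13 26 p13_zero p13_succ 13 (by norm_num)]
    exact p13_checks.1
  have hy2 : y ^ 2 ≠ 1 := fun e => p13_checks.2.2 (by
    rw [pow_table p13 26 p13_zero p13_succ 2 (by norm_num), ← hy1, ← SubmonoidClass.coe_pow, e]; rfl)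
  have hz0 : orderOf (y ^ 14) = 13 := by
    refine orderOf_eq_prime (by rw [← pow_mul, show 14 * 13 = 26 * 7 by norm_num, pow_mul, hyN, one_pow]) fun e => ?_
    apply hy2
    have h7 : (y ^ 14) ^ 2 = 1 := by rw [e, one_pow]
    rwa [← pow_mul, show 14 * 2 = 26 + 2 by norm_num, pow_add, hyN, one_mul] at h7
  obtain ⟨k, hk⟩ := conj_reduce (m := 705438720) (by rw [card_Sp63]) (by norm_num) hz hz0 c h
  obtain ⟨i, hi⟩ := hy _ hk
  have h1 : (k * c * k⁻¹) ^ 13 ∈ Subgroup.center Sp63 := by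
    rw [hi, ← pow_mul, mul_comm, pow_mul]
    exact Subgroup.pow_mem _ (mem_center_of_neg (Or.inr hy13)) i
  rw [conj_pow] at h1
  have := (inferInstance : (Subgroup.center Sp63).Normal).conj_mem _ h1 k⁻¹
  simpa [mul_assoc] using this

theorem centralizer_seven {z c : Sp63} (hz : orderOf z = 7) (h : Commute c z) : c ^ 28 = 1 := by
  haveI : Fact (Nat.Prime 7) := ⟨by norm_num⟩
  obtain ⟨y, hy1, hyN, hy⟩ := commutant p28 28 4 (by norm_num) p28_zero p28_succ p28_checks.1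
    p28_symp _ a28_inv orbit28
  have hz0 : orderOf (y ^ 4) = 7 := by
    refine orderOf_eq_prime (by rw [← pow_mul]; exact hyN) fun e => p28_checks.2 ?_
    rw [pow_table p28 28 p28_zero p28_succ 4 (by norm_num), ← hy1, ← SubmonoidClass.coe_pow, e]; rfl
  obtain ⟨k, hk⟩ := conj_reduce (m := 1310100480) (by rw [card_Sp63]) (by norm_num) hz hz0 c h
  obtain ⟨i, hi⟩ := hy _ hk
  have h1 : (k * c * k⁻¹) ^ 28 = 1 := by
    rw [hi, ← pow_mul, mul_comm, pow_mul, hyN, one_pow]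
  rwa [conj_pow, conj_eq_one_iff] at h1

/-- The projection. -/
abbrev proj : Sp63 →* Cfsg.PSp 3 (ZMod 3) := QuotientGroup.mk' _

theorem proj_eq_one {c : Sp63} : proj c = 1 ↔ c ∈ Subgroup.center Sp63 := QuotientGroup.eq_one_iff c

/-- Products of two primes that are element orders only along the edges. -/
theorem psp_order (g : Cfsg.PSp 3 (ZMod 3)) (q r : ℕ) (hr : r.Prime) (hqr : q ≠ r)
    (hg : orderOf g = q * r) : q ≠ 13 ∧ (q = 7 → r = 2) := by
  have lift : ∀ q : ℕ, q.Prime → q ≠ 2 → q ≠ r → orderOf g = q * r →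
      ∃ c z : Sp63, proj c = g ∧ orderOf z = q ∧ Commute c z := by
    intro q hq hq2 hne hg
    obtain ⟨c, rfl⟩ := QuotientGroup.mk'_surjective _ g
    haveI := Fact.mk hq
    refine ⟨c, c ^ (2 * r), rfl, orderOf_eq_prime ?_ fun e => ?_, (Commute.refl c).pow_right _⟩
    · have h1 : c ^ (q * r) ∈ Subgroup.center Sp63 := by
        rw [← proj_eq_one, map_pow, ← hg, pow_orderOf_eq_one]
      rw [← pow_mul, show 2 * r * q = (q * r) * 2 by ring, pow_mul]
      apply Subtype.ext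
      rcases center_cases h1 with e | e <;> rw [SubmonoidClass.coe_pow, e] <;> simp
    · have h1 := congrArg proj e
      rw [map_pow, map_one] at h1
      have h2 := orderOf_dvd_of_pow_eq_one h1
      rw [show orderOf (proj c) = q * r from hg] at h2
      have h3 : q ∣ 2 := Nat.dvd_of_mul_dvd_mul_right hr.pos h2
      exact hq2 ((Nat.prime_dvd_prime_iff_eq hq Nat.prime_two).1 h3)
  constructor
  · rintro rfl
    obtain ⟨c, z, rfl, hz, hcz⟩ := lift 13 (by norm_num) (by norm_num) hqr hg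
    have h1 : proj c ^ 13 = 1 := by
      rw [← map_pow, proj_eq_one]; exact centralizer_thirteen hz hcz
    have h2 := orderOf_dvd_of_pow_eq_one h1
    rw [hg] at h2
    have h3 := Nat.le_of_dvd (by norm_num) h2
    have := hr.two_le
    omega
  · rintro rfl
    obtain ⟨c, z, rfl, hz, hcz⟩ := lift 7 (by norm_num) (by norm_num) hqr hg
    have h1 : proj c ^ 28 = 1 := by rw [← map_pow, centralizer_seven hz hcz, map_one]
    have h2 := orderOf_dvd_of_pow_eq_one h1
    rw [hg, show (28 : ℕ) = 7 * 2 ^ 2 by norm_num] at h2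
    exact (Nat.prime_dvd_prime_iff_eq hr Nat.prime_two).1
      (hr.dvd_of_dvd_pow (Nat.dvd_of_mul_dvd_mul_left (by norm_num) h2))

/-- An element with a prescribed order. -/
theorem exists_order (p : ℕ → M6) (q r : ℕ) (hq : q.Prime) (hr : r.Prime) (h0 : p 0 = 1)
    (hs : ∀ i : Fin (q * r), p (i.val + 1) = p i.val * p 1)
    (hsymp : p 1 * Matrix.J (Fin 3) (ZMod 3) * (p 1)ᵀ = Matrix.J (Fin 3) (ZMod 3))
    (h : (p (q * r) = 1 ∨ p (q * r) = -1) ∧ p q ≠ 1 ∧ p q ≠ -1 ∧ p r ≠ 1 ∧ p r ≠ -1) :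
    ∃ g : Cfsg.PSp 3 (ZMod 3), orderOf g = q * r := by
  let y : Sp63 := ⟨p 1, SymplecticGroup.mem_iff.2 hsymp⟩
  have hy : ∀ i ≤ q * r, (y ^ i).1 = p i := fun i hi => by
    rw [pow_table p _ h0 hs i hi, SubmonoidClass.coe_pow]
  refine ⟨proj y, ?_⟩
  have hd : orderOf (proj y) ∣ q * r := by
    refine orderOf_dvd_of_pow_eq_one ?_
    rw [← map_pow, proj_eq_one]
    exact mem_center_of_neg (by rw [hy _ le_rfl]; exact h.1)
  have hn : ∀ i, i ≤ q * r → p i ≠ 1 → p i ≠ -1 → ¬ orderOf (proj y) ∣ i := by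
    intro i hi h1 h2 hdvd
    have := orderOf_dvd_iff_pow_eq_one.1 hdvd
    rw [← map_pow, proj_eq_one] at this
    rcases center_cases this with e | e <;> rw [hy i hi] at e
    · exact h1 e
    · exact h2 e
  have hnq := hn q (Nat.le_mul_of_pos_right _ hr.pos) h.2.1 h.2.2.1
  have hnr := hn r (Nat.le_mul_of_pos_left _ hq.pos) h.2.2.2.1 h.2.2.2.2
  obtain ⟨a, b, ha, hb, hab⟩ := Nat.dvd_mul.1 hd
  rw [← hab] at hnq hnr ⊢
  rcases (Nat.dvd_prime hq).1 ha with rfl | rfl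
  · exact absurd (by rw [one_mul]; exact hb) hnr
  rcases (Nat.dvd_prime hr).1 hb with rfl | rfl
  · exact absurd (by rw [mul_one]) hnq
  · rfl

theorem card_psp : Nat.card (Cfsg.PSp 3 (ZMod 3)) = 4585351680 := by
  have h := Subgroup.card_eq_card_quotient_mul_card_subgroup (Subgroup.center Sp63)
  rw [card_Sp63, S0246.result (ZMod.card 3) 3 (by norm_num)] at h
  have h' : (9170703360 : ℕ) = Nat.card (Cfsg.PSp 3 (ZMod 3)) * 2 := h
  omega

end Cfsg.Agent.Recog.SpSixThree
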