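import Cfsg.Agent.Lib.Suzuki.AutSz
import Cfsg.Agent.S0334
import Mathlib

/-!
# Facts on `Sz(8)` and its field automorphism
-/

set_option autoImplicit false

namespace Cfsg.Agent.Recog.SzEightGraph

open Cfsg.Agent.Suzuki Polynomial
open scoped Matrix

/-- Reduction of powers modulo a monic quartic. -/
def red4 (c : Fin 4 → ZMod 2) : ℕ → Fin 4 → ZMod 2
  | 0 => ![1, 0, 0, 0]
  | n + 1 =>
    let r := red4 c n
    ![r 3 * c 0, r 0 + r 3 * c 1, r 1 + r 3 * c 2, r 2 + r 3 * c 3]

theorem red4_check : ∀ c0 c1 c2 c3 : ZMod 2, c0 ≠ 0 →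
    List.ofFn (red4 ![c0, c1, c2, c3] 420) = [1, 0, 0, 0] := by
  decide +kernel

variable {F : Type*} [Field F]

theorem pow_eq_red4 [CharP F 2] {n : Type*} [Fintype n] [DecidableEq n] (M : Matrix n n F)
    (c : Fin 4 → ZMod 2)
    (h : M ^ 4 = ∑ i, ((ZMod.castHom (dvd_refl 2) F) (c i)) • M ^ (i : ℕ)) (k : ℕ) :
    M ^ k = ∑ i, ((ZMod.castHom (dvd_refl 2) F) (red4 c k i)) • M ^ (i : ℕ) := by
  induction k with
  | zero => simp [red4, Fin.sum_univ_four]
  | succ k ih =>
    rw [pow_succ, ih, Fin.sum_univ_four, Fin.sum_univ_four]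
    rw [Fin.sum_univ_four] at h
    simp only [Fin.val_zero, Fin.val_one, Fin.val_two, show ((3 : Fin 4) : ℕ) = 3 from rfl,
      pow_zero, pow_one] at h ⊢
    simp only [red4, Matrix.cons_val_zero, Matrix.cons_val_one, Matrix.cons_val,
      map_add, map_mul, add_mul, smul_mul_assoc, one_mul, ← pow_succ, ← pow_two]
    rw [h]
    module

variable [Fintype F] (D : Dat F 1) (hF : Fintype.card F = 2 ^ (2 * 1 + 1))
include D hF

theorem fpf_of_thirteen {z : Cfsg.Sz F 1} (hz : orderOf z = 13) : Fpf z := by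
  rcases fix_trichotomy z with h | h | h
  · exact h
  · have := orderOf_dvd_of_pow_eq_one (pow_four_of_oneFix D hF h)
    rw [hz] at this; omega
  · have := orderOf_dvd_of_pow_eq_one (pow_card_sub_one_of_twoFix D hF h)
    rw [hz, hF] at this; omega

theorem order_cases (g : Cfsg.Sz F 1) :
    orderOf g ∣ 4 ∨ orderOf g ∣ 7 ∨ orderOf g ∣ 13 ∨ orderOf g ∣ 5 := by
  rcases eq_or_ne g 1 with rfl | hg
  · exact Or.inl (by rw [orderOf_one]; exact one_dvd _)
  rcases fix_trichotomy g with h | h | h
  · obtain ⟨U, hU, hgU⟩ := exists_torus_mem D hF hg h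
    have hd : orderOf g ∣ Nat.card U := Subgroup.orderOf_dvd_natCard U hgU
    rcases torus_card D hF hU with e | e <;> rw [e, hF] at hd
    · exact Or.inr (Or.inr (Or.inl hd))
    · exact Or.inr (Or.inr (Or.inr hd))
  · exact Or.inl (orderOf_dvd_of_pow_eq_one (pow_four_of_oneFix D hF h))
  · refine Or.inr (Or.inl (orderOf_dvd_of_pow_eq_one ?_))
    have := pow_card_sub_one_of_twoFix D hF h
    rwa [hF] at this

/-- An element of order thirteen is not intertwined with a fixed-point-free Galois conjugate. -/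
theorem no_intertwine {z : Cfsg.Sz F 1} (hz : orderOf z = 13) (φ : F →+* F)
    (hφ : ∀ x, φ x = x → x = 0 ∨ x = 1) {Y : Matrix (Fin 4) (Fin 4) F} (hY : Y ≠ 0)
    (h : z.1.1 * Y = Y * z.1.1.map φ) : False := by
  classical
  haveI := D.char2
  have hp : (orderOf z).Prime := hz ▸ by norm_num
  obtain ⟨hirr, hdeg⟩ := torus_minpoly D hF hp (fpf_of_thirteen D hF hz)
  set A := z.1.1
  set B := A.map φ
  set p := minpoly F A
  have hmon : p.Monic := minpoly.monic (Matrix.isIntegral A)
  have hd4 : p.natDegree = 4 := hdeg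
  have hlead : p.coeff 4 = 1 := hd4 ▸ hmon.coeff_natDegree
  have hsum : A ^ 4 + ∑ i : Fin 4, p.coeff i • A ^ (i : ℕ) = 0 := by
    have := minpoly.aeval F A
    rw [aeval_eq_sum_range, show (minpoly F A).natDegree = 4 from hd4, Finset.sum_range_succ, ← Fin.sum_univ_eq_sum_range
      (fun i => (minpoly F A).coeff i • A ^ i), show (minpoly F A).coeff 4 = 1 from hlead, one_smul,
      add_comm] at this
    exact this
  have hqB : aeval B (p.map φ) = 0 := by
    have := congrArg φ.mapMatrix (minpoly.aeval F A)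
    rw [map_zero, aeval_def, hom_eval₂] at this
    rw [aeval_def, eval₂_map]
    refine (congrArg (fun f => eval₂ f B (minpoly F A)) ?_).trans this
    ext a i j
    by_cases hij : i = j
    · subst hij; simp [Matrix.algebraMap_matrix_apply]
    · simp [Matrix.algebraMap_matrix_apply, hij]
  have hqm : (p.map φ).Monic := hmon.map φ
  have hpow : ∀ k : ℕ, A ^ k * Y = Y * B ^ k := by
    intro k
    induction k with
    | zero => simp
    | succ k ih => rw [pow_succ, mul_assoc, h, ← mul_assoc, ih, mul_assoc, ← pow_succ]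
  have hYp : Y * aeval B p = 0 := by
    have h0 : aeval A p * Y = Y * aeval B p := by
      rw [aeval_eq_sum_range, aeval_eq_sum_range, Finset.sum_mul, Finset.mul_sum]
      exact Finset.sum_congr rfl fun k _ => by rw [smul_mul_assoc, hpow, mul_smul_comm]
    rw [← h0, minpoly.aeval, zero_mul]
  have hpq : p = p.map φ := by
    by_cases hdvd : p ∣ p.map φ
    · exact (eq_of_monic_of_dvd_of_natDegree_le hmon hqm hdvd
        (by rw [hmon.natDegree_map φ])).symm
    · obtain ⟨a, b, hab⟩ := (hirr.coprime_iff_not_dvd).2 hdvd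
      exfalso
      apply hY
      have h2 : aeval B p * aeval B a = 1 := by
        have h1 := congrArg (aeval B) hab
        rw [map_add, map_mul, map_mul, map_one, hqB, mul_zero, add_zero, ← map_mul, mul_comm a p, map_mul] at h1
        exact h1
      calc Y = Y * (aeval B p * aeval B a) := by rw [h2, mul_one]
        _ = 0 := by rw [← mul_assoc, hYp, zero_mul]
  have hc : ∀ i, p.coeff i = 0 ∨ p.coeff i = 1 := fun i => hφ _ (by
    conv_rhs => rw [hpq, coeff_map])
  let c : Fin 4 → ZMod 2 := fun i => if p.coeff i = 0 then 0 else 1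
  have hcast : ∀ i : Fin 4, (ZMod.castHom (dvd_refl 2) F) (c i) = p.coeff i := by
    intro i
    rcases hc i with e | e <;> simp [c, e]
  have h4 : A ^ 4 = ∑ i, ((ZMod.castHom (dvd_refl 2) F) (c i)) • A ^ (i : ℕ) := by
    rw [Finset.sum_congr rfl fun i _ => by rw [hcast i], add_eq_zero_iff_eq_neg.1 hsum, ← Finset.sum_neg_distrib]
    exact Finset.sum_congr rfl fun i _ => by rw [← neg_smul, CharTwo.neg_eq]
  have hc0 : c 0 ≠ 0 := by
    have h0 : p.coeff 0 ≠ 0 := by
      intro h0
      have hX : X ∣ p := X_dvd_iff.2 h0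
      have := natDegree_eq_of_degree_eq (degree_eq_degree_of_associated (irreducible_X.associated_of_dvd hirr hX))
      rw [natDegree_X, hd4] at this
      omega
    simp [c, h0]
  have h420 : A ^ 420 = 1 := by
    rw [pow_eq_red4 A c h4 420]
    have hr := red4_check (c 0) (c 1) (c 2) (c 3) hc0
    rw [show (![c 0, c 1, c 2, c 3] : Fin 4 → ZMod 2) = c from
      funext fun i => by fin_cases i <;> rfl] at hr
    simp only [List.ofFn_succ, List.ofFn_zero, List.cons.injEq, and_true] at hr
    obtain ⟨r0, r1, r2, r3⟩ := hr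
    rw [Fin.sum_univ_four]
    rw [show (red4 c 420) 0 = 1 from r0, show (red4 c 420) 1 = 0 from r1,
      show (red4 c 420) 2 = 0 from r2, show (red4 c 420) 3 = 0 from r3]
    simp
  have hg : z ^ 420 = 1 := Subtype.ext (Subtype.ext (by simpa using h420))
  have := orderOf_dvd_of_pow_eq_one hg
  rw [hz] at this
  omega

theorem fixed_cases {i : ZMod 3} (hi : i ≠ 0) {x : F} (h : frHom D i x = x) : x = 0 ∨ x = 1 := by
  have h8 : x ^ 8 = x := by
    have := FiniteField.pow_card x
    rwa [hF] at this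
  rcases eq_or_ne x 0 with h0 | h0
  · exact Or.inl h0
  refine Or.inr ?_
  have hu : (Units.mk0 x h0) ^ 7 = 1 := Units.ext (by
    rw [Units.val_pow_eq_pow_val, Units.val_mk0, Units.val_one]
    exact mul_right_cancel₀ h0 (by rw [← pow_succ, h8, one_mul]))
  have hu' : (Units.mk0 x h0) ^ (2 ^ i.val - 1) = 1 := Units.ext (by
    rw [Units.val_pow_eq_pow_val, Units.val_mk0, Units.val_one]
    refine mul_right_cancel₀ h0 ?_
    rw [← pow_succ, Nat.sub_add_cancel Nat.one_le_two_pow, one_mul]
    exact h)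
  have hg := Nat.dvd_gcd (orderOf_dvd_of_pow_eq_one hu) (orderOf_dvd_of_pow_eq_one hu')
  have hv : i.val = 1 ∨ i.val = 2 := by
    have h1 := ZMod.val_lt i
    have h2 : i.val ≠ 0 := fun e => hi ((ZMod.val_eq_zero i).1 e)
    omega
  have h1 : orderOf (Units.mk0 x h0) = 1 := by
    rcases hv with e | e <;> rw [e] at hg <;> simpa using hg
  simpa using congrArg Units.val (orderOf_eq_one_iff.1 h1)

/-- No element of order `13` is centralised by an outer element. -/
theorem outer_thirteen {s z : Cfsg.Sz F 1} {i : ZMod 3} (hi : i ≠ 0) (hz : orderOf z = 13)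
    (h : s * fieldAut D hF i z * s⁻¹ = z) : False := by
  refine no_intertwine D hF hz (frHom D i) (fun x => fixed_cases D hF hi) (Y := s.1.1) ?_ ?_
  · intro e
    have := s.1.2
    rw [e, Matrix.det_zero] at this
    exact zero_ne_one this
  · rw [mul_inv_eq_iff_eq_mul] at h
    exact (congrArg (fun g : Cfsg.Sz F 1 => g.1.1) h).symm

/-- No element of order `7` is centralised by an outer element. -/
theorem outer_seven {s z : Cfsg.Sz F 1} {i : ZMod 3} (hi : i ≠ 0) (hz : orderOf z = 7)
    (h : s * fieldAut D hF i z * s⁻¹ = z) : False := by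
  have hz1 : z ≠ 1 := fun e => by rw [e, orderOf_one] at hz; omega
  rcases fix_trichotomy z with hf | hf | ⟨a, b, hab, ha, hb⟩
  · obtain ⟨U, hU, hgU⟩ := exists_torus_mem D hF hz1 hf
    have hd : orderOf z ∣ Nat.card U := Subgroup.orderOf_dvd_natCard U hgU
    rcases torus_card D hF hU with e | e <;> rw [e, hz, hF] at hd <;> omega
  · have := orderOf_dvd_of_pow_eq_one (pow_four_of_oneFix D hF hf)
    rw [hz] at this; omega
  obtain ⟨k, hka, hkb⟩ := exists_conj_pair D hab
  obtain ⟨u, hu⟩ := conj_pair D hF hka hkb ha hb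
  have hu1 : u ≠ 1 := fun e => by
    rw [e, gH_one, conj_eq_one_iff] at hu; exact hz1 hu
  set v := frUnit D i u
  set s' := k * s * fieldAut D hF i k⁻¹
  have h' : s' * gH D v = gH D u * s' := by
    rw [← fieldAut_gH D hF, ← hu, map_mul, map_mul]
    have hh : s * fieldAut D hF i z = z * s := by rw [← mul_inv_eq_iff_eq_mul]; exact h
    calc s' * (fieldAut D hF i k * fieldAut D hF i z * fieldAut D hF i k⁻¹)
        = k * (s * fieldAut D hF i z) * fieldAut D hF i k⁻¹ := by
          simp only [s', mul_assoc, map_inv, inv_mul_cancel_left]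
      _ = _ := by rw [hh]; simp only [s', mul_assoc, inv_mul_cancel_left]
  have hfixI : gH D u • (s' • oI D) = s' • oI D := by
    rw [← mul_smul, ← h', mul_smul, gH_oI]
  have hfixP : gH D u • (s' • oP D 0 0) = s' • oP D 0 0 := by
    rw [← mul_smul, ← h', mul_smul, gH_oP0]
  have hord : u ^ 7 = 1 := Units.ext (by
    rw [Units.val_pow_eq_pow_val, Units.val_one]
    have := FiniteField.pow_card_sub_one_eq_one (u : F) u.ne_zero
    rwa [hF] at this)
  have hgu : gH D v = gH D u ∨ gH D v = gH D u⁻¹ := by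
    rcases oP0_of_fix D hF hu1 hfixI with eI | eI
    · rcases oP0_of_fix D hF hu1 hfixP with eP | eP
      · exact absurd (smul_left_cancel _ (eP.trans eI.symm)) (oI_ne_oP D 0 0).symm
      obtain ⟨t, ht⟩ := fix_pair_of_gfix D hF eI eP
      left
      rw [ht, gH_mul, gH_mul, mul_comm u t] at h'
      rw [mul_left_cancel (gH_inj D h')]
    · rcases oP0_of_fix D hF hu1 hfixP with eP | eP
      swap
      · exact absurd (smul_left_cancel _ (eI.trans eP.symm)) (oI_ne_oP D 0 0)
      have hw : gw D • oP D 0 0 = oI D := Subtype.ext (w_zero D)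
      have e1 : (gw D * s') • oI D = oI D := by rw [mul_smul, eI, hw]
      have e2 : (gw D * s') • oP D 0 0 = oP D 0 0 := by rw [mul_smul, eP, gw_oI]
      obtain ⟨t, ht⟩ := fix_pair_of_gfix D hF e1 e2
      right
      have hww : gw D * gw D = 1 := Subtype.ext (w_mul_w (F := F))
      have hconj : gw D * gH D u * gw D = gH D u⁻¹ := Subtype.ext (w_H_w D.θ u)
      have h2 : gw D * s' * gH D v = gH D u⁻¹ * (gw D * s') := by
        rw [mul_assoc, h', ← hconj]
        simp only [mul_assoc]
        rw [← mul_assoc (gw D) (gw D), hww, one_mul]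
      rw [ht, gH_mul, gH_mul, mul_comm u⁻¹ t] at h2
      rw [mul_left_cancel (gH_inj D h2)]
  have hv : (v : F) = (u : F) ^ 2 ^ i.val := rfl
  have hi' : i.val = 1 ∨ i.val = 2 := by
    have h1 := ZMod.val_lt i
    have h2 : i.val ≠ 0 := fun e => hi ((ZMod.val_eq_zero i).1 e)
    omega
  have hpow : v = u ^ 2 ^ i.val := Units.ext (by rw [Units.val_pow_eq_pow_val]; exact hv)
  apply hu1
  rcases hgu with e | e
  · have e' := gH_inj D e
    have := fixed_cases D hF hi (x := (u : F)) (congrArg Units.val e')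
    rcases this with h0 | h1
    · exact absurd h0 u.ne_zero
    · exact Units.ext h1
  · have e' := gH_inj D e
    rw [hpow] at e'
    have h3 : u ^ (2 ^ i.val + 1) = 1 := by rw [pow_succ, e', inv_mul_cancel]
    have hg := Nat.dvd_gcd (orderOf_dvd_of_pow_eq_one hord) (orderOf_dvd_of_pow_eq_one h3)
    rcases hi' with e'' | e'' <;> rw [e''] at hg <;> exact orderOf_eq_one_iff.1 (by simpa using hg)

end Cfsg.Agent.Recog.SzEightGraph
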